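import Cfsg.Agent.Lib.CentralIntSimple11.Maximal
import Cfsg.Agent.Lib.CentralInt88.Main
import Cfsg.Agent.Lib.SmallGroups.Sylow

/-!
# Simple groups with central Sylow 2-intersections, modulo Walter's theorem and part I
-/

set_option autoImplicit false
set_option linter.style.haveILetI false

namespace Cfsg.Agent.Lib.CentralIntSimple11

open Subgroup Cfsg.Agent.Lib.Walter

universe u

variable {G : Type u} [Group G] [Finite G]

omit [Finite G] in
theorem normal_eq_bot_of_comm [IsSimpleGroup G] (hG : ¬ IsMulCommutative G) {A : Subgroup G}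
    [hA : A.Normal] (hc : IsMulCommutative A) : A = ⊥ :=
  (IsSimpleGroup.eq_bot_or_eq_top_of_normal A hA).resolve_right fun h => hG ⟨⟨fun a b =>
    congrArg Subtype.val (hc.is_comm.comm (⟨a, h ▸ mem_top a⟩ : A) ⟨b, h ▸ mem_top b⟩)⟩⟩

omit [Finite G] in
/-- A central product inside a simple group: the abelian factor vanishes. -/
theorem eq_top_of_product [IsSimpleGroup G] (hG : ¬ IsMulCommutative G) {A L : Subgroup G}
    (hc : IsMulCommutative A) (hcomm : ∀ a ∈ A, ∀ l ∈ L, a * l = l * a) (hsup : A ⊔ L = ⊤) :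
    L = ⊤ := by
  have hA : A.Normal := normalizer_eq_top_iff.1 <| eq_top_iff.2 <| hsup ▸ sup_le le_normalizer
    (fun l hl => mem_normalizer_iff.2 fun a => ⟨fun ha => by
      rw [← hcomm a ha l hl, mul_inv_cancel_right]; exact ha, fun ha => by
      have h1 := hcomm _ ha l hl
      have h2 : l * a * l⁻¹ = a :=
        mul_left_cancel (a := l) (b := l * a * l⁻¹) (c := a) (by rw [← h1]; group)
      rwa [h2] at ha⟩)
  rw [normal_eq_bot_of_comm (A := A) hG hc, bot_sup_eq] at hsup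
  exact hsup

/-- The abelian case: Walter's theorem, with maximality in the case of Janko–Ree type. -/
theorem abelian_case [IsSimpleGroup G] (hK : Walter.PropKnown.{u})
    (hOdd : ∀ (L : Type u) [Group L] [Finite L], IsOddType L → OddFacts L)
    (hSplit : BenderOne.PropSplit.{u}) (hG : ¬ IsMulCommutative G)
    (hab : ∀ S : Sylow 2 G, IsMulCommutative ↥(S : Subgroup G)) :
    (∃ (F : Type) (_ : Field F) (_ : Fintype F),
        (Fintype.card F % 8 = 0 ∨ Fintype.card F % 8 = 3 ∨ Fintype.card F % 8 = 5) ∧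
        Nonempty (G ≃* Matrix.ProjectiveSpecialLinearGroup (Fin 2) F)) ∨
      ∃ t : G, orderOf t = 2 ∧ IsCoatom (centralizer ({t} : Set G)) ∧
        ∃ E : Subgroup G, Cfsg.IsInternalDirectProduct (zpowers t) E (centralizer ({t} : Set G)) ∧
          ∃ (F : Type) (_ : Field F) (_ : Fintype F), Odd (Fintype.card F) ∧ 3 < Fintype.card F ∧
            ∃ N : Subgroup ↥E, N.Normal ∧ Nonempty (↥N ≃* Matrix.ProjectiveSpecialLinearGroup (Fin 2) F) ∧
              centralizer (N : Set ↥E) = ⊥ := by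
  rcases hK G inferInstance hG hab with ⟨n, F, hF, hF', hn, hc, e⟩ | ⟨F, hF, hF', hq, -, e⟩ | hJ
  · refine Or.inl ⟨F, hF, hF', Or.inl ?_, e⟩
    obtain ⟨k, rfl⟩ : ∃ k, n = k + 3 := ⟨n - 3, by omega⟩
    rw [hc, pow_add]
    omega
  · exact Or.inl ⟨F, hF, hF', Or.inr hq, e⟩
  right
  haveI : Fact (Nat.Prime 2) := ⟨Nat.prime_two⟩
  obtain ⟨t, ht⟩ := exists_prime_orderOf_dvd_card' (G := G) 2 (by
    obtain ⟨T⟩ := (inferInstance : Nonempty (Sylow 2 G))
    exact (show 2 ∣ 8 by norm_num).trans (hJ.card_sylow T ▸ card_subgroup_dvd_card _))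
  obtain ⟨E, E₀, hE⟩ := hJ.centralizer t ht
  refine ⟨t, ht, isCoatom_centralizer hSplit hOdd hJ hG ht, E, hE.1, ?_⟩
  obtain ⟨F, hF, hF', hq, h5, ⟨e⟩⟩ := hE.2.2.2.2.1
  refine ⟨F, hF, hF', Nat.odd_iff.2 (by omega), by omega, E₀.subgroupOf E, hE.2.2.1,
    ⟨(subgroupOfEquivOfLe hE.2.1).trans e⟩, eq_bot_iff.2 fun x hx => mem_bot.2 (Subtype.ext ?_)⟩
  refine mem_bot.1 (hE.2.2.2.2.2 ▸ mem_inf.2 ⟨x.2, mem_centralizer_iff.2 fun y hy => ?_⟩)
  exact congrArg Subtype.val (mem_centralizer_iff.1 hx ⟨y, hE.2.1 hy⟩ hy)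

/-- Row 3182 modulo Walter's classification, the facts about `PSL(2,q)` and part I. -/
theorem row3182 [IsSimpleGroup G] (hK : Walter.PropKnown.{u})
    (hOdd : ∀ (L : Type u) [Group L] [Finite L], IsOddType L → OddFacts L)
    (hSplit : BenderOne.PropSplit.{u}) (hP : BenderConsumers23.PropPartOne.{u})
    (hG : ¬ IsMulCommutative G)
    (hCI : ∀ S T : Sylow 2 G, S ≠ T → ∃ U : Sylow 2 G,
      (S : Subgroup G) ⊓ (T : Subgroup G) ≤ (Subgroup.center ↥(U : Subgroup G)).map (U : Subgroup G).subtype) :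
    (∃ (F : Type) (_ : Field F) (_ : Fintype F),
        (Fintype.card F % 8 = 0 ∨ Fintype.card F % 8 = 3 ∨ Fintype.card F % 8 = 5) ∧
        Nonempty (G ≃* Matrix.ProjectiveSpecialLinearGroup (Fin 2) F)) ∨
    ((∀ S : Sylow 2 G, IsMulCommutative ↥(S : Subgroup G)) ∧
      ∃ t : G, orderOf t = 2 ∧ IsCoatom (Subgroup.centralizer ({t} : Set G)) ∧
        ∃ E : Subgroup G, Cfsg.IsInternalDirectProduct (Subgroup.zpowers t) E (Subgroup.centralizer ({t} : Set G)) ∧
          ∃ (F : Type) (_ : Field F) (_ : Fintype F), Odd (Fintype.card F) ∧ 3 < Fintype.card F ∧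
            ∃ N : Subgroup ↥E, N.Normal ∧ Nonempty (↥N ≃* Matrix.ProjectiveSpecialLinearGroup (Fin 2) F) ∧
              Subgroup.centralizer (N : Set ↥E) = ⊥) ∨
    (∃ (m : ℕ) (F : Type) (_ : Field F) (_ : Fintype F), 1 ≤ m ∧ Fintype.card F = 2 ^ (2 * m + 1) ∧
        Nonempty (G ≃* ↥(Cfsg.Lie.Sz F (2 ^ (m + 1))))) ∨
    (∃ (n : ℕ) (F : Type) (_ : Field F) (_ : Fintype F), 2 ≤ n ∧ Fintype.card F = 4 ^ n ∧
        Nonempty (G ≃* Cfsg.PSU 3 F (2 ^ n))) := by
  have hz : center G = ⊥ := SmallGroups.Sylow.center_eq_bot hG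
  rcases CentralInt88.main hP hCI with ⟨hsol, -⟩ | hab | ⟨N, M, hN, hM, hNM, hlt, hNodd, -, A, L, hA, -, ⟨eL⟩, hcomm, hsup⟩ |
    ⟨M, hM, hMi, A, L, hA, -, hcase⟩
  · exact absurd ⟨⟨IsSimpleGroup.comm_iff_isSolvable.2 hsol⟩⟩ hG
  · rcases abelian_case hK hOdd hSplit hG hab with h | h
    · exact Or.inl h
    · exact Or.inr (Or.inl ⟨hab, h⟩)
  · exfalso
    have hMt : M = ⊤ := (IsSimpleGroup.eq_bot_or_eq_top_of_normal M hM).resolve_left fun h =>
      not_lt_bot (h ▸ hlt)
    have hNb : N = ⊥ := (IsSimpleGroup.eq_bot_or_eq_top_of_normal N hN).resolve_right fun h =>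
      hlt.ne (h.trans hMt.symm)
    subst hMt hNb
    let e : (↥(⊤ : Subgroup G) ⧸ (⊥ : Subgroup G).subgroupOf ⊤) ≃* G :=
      ((QuotientGroup.quotientMulEquivOfEq (bot_subgroupOf (⊤ : Subgroup G))).trans
        QuotientGroup.quotientBot).trans topEquiv
    let z : Matrix.SpecialLinearGroup (Fin 2) (ZMod 5) := -1
    have hzc : ∀ x, x * z = z * x := fun x => by simp [z]
    have hz1 : z ≠ 1 := by decide
    have hmem : e (eL.symm z) ∈ center G := by
      refine mem_center_iff.2 fun g => ?_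
      obtain ⟨y, rfl⟩ := e.surjective g
      rw [← map_mul, ← map_mul]
      refine congrArg e ?_
      have hy : y ∈ A ⊔ L := hsup ▸ mem_top y
      have hle : A ⊔ L ≤ centralizer ({(↑(eL.symm z) : ↥(⊤ : Subgroup G) ⧸ (⊥ : Subgroup G).subgroupOf ⊤)} : Set _) := by
        refine sup_le (fun a ha => mem_centralizer_singleton_iff.2 (hcomm a ha _ (eL.symm z).2))
          fun l hl => mem_centralizer_singleton_iff.2 ?_
        have h1 : (⟨l, hl⟩ : ↥L) * eL.symm z = eL.symm z * ⟨l, hl⟩ := eL.injective (by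
          rw [map_mul, map_mul, eL.apply_symm_apply]
          exact hzc _)
        exact congrArg Subtype.val h1
      exact mem_centralizer_singleton_iff.1 (hle hy)
    rw [hz, mem_bot, EmbeddingLike.map_eq_one_iff, OneMemClass.coe_eq_one,
      EmbeddingLike.map_eq_one_iff] at hmem
    exact hz1 hmem
  · have hMt : M = ⊤ := (IsSimpleGroup.eq_bot_or_eq_top_of_normal M hM).resolve_left fun h => by
      rw [h, index_bot] at hMi
      exact hG ⟨⟨IsSimpleGroup.comm_iff_isSolvable.2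
        (OddOrder.FeitThompson.isSolvable_of_odd_card hMi)⟩⟩
    subst hMt
    rcases hcase with ⟨⟨-, -, hcomm, -, hsup⟩, hf⟩ | ⟨-, -, hcomm, hsup, -, hzL, -⟩
    · have hLt := eq_top_of_product hG hA hcomm hsup
      subst hLt
      rcases hf with ⟨m, F, i, j, hm, hF, ⟨e⟩⟩ | ⟨n, F, i, j, hn, hF, he⟩
      · exact Or.inr (Or.inr (Or.inl ⟨m, F, i, j, hm, hF, ⟨topEquiv.symm.trans e⟩⟩))
      · refine Or.inr (Or.inr (Or.inr ⟨n, F, i, j, hn, hF, ?_⟩))
        rcases he with he | he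
        · exact he.map fun e => topEquiv.symm.trans e
        · obtain ⟨e⟩ := he
          have hc : center ↥(Cfsg.SU 3 F (2 ^ n)) = ⊥ := by
            rw [← CentralInt88.map_center (topEquiv.symm.trans e), hz, Subgroup.map_bot]
          exact ⟨(topEquiv.symm.trans e).trans
            ((QuotientGroup.quotientMulEquivOfEq hc).trans QuotientGroup.quotientBot).symm⟩

    · exfalso
      have hLt := eq_top_of_product hG hA hcomm hsup
      subst hLt
      exact hzL (by rw [← CentralInt88.map_center (topEquiv (G := G)).symm, hz, Subgroup.map_bot])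

end Cfsg.Agent.Lib.CentralIntSimple11
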