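import Cfsg.Agent.Lib.Walter.Basic
import Cfsg.Agent.Lib.Walter.InterfaceFacts
import Cfsg.Agent.Lib.CentralInt88.Data
import Cfsg.Agent.Lib.Linear.Simple
import Cfsg.Agent.Lib.ZStar.Elements
import Cfsg.Agent.Lib.ZStar.StronglyClosed

/-!
# Groups of Janko–Ree type: centralisers of involutions are maximal

A proper subgroup above `C(t)` either has `t` isolated, and then its odd core is trivial, or it fuses
all involutions of a Sylow subgroup, and then it is strongly embedded, hence solvable.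
-/

set_option autoImplicit false
set_option linter.style.haveILetI false

namespace Cfsg.Agent.Lib.CentralIntSimple11

open Subgroup Cfsg.Agent.Lib.Walter

universe u

variable {G : Type u} [Group G] {u : G} {E E₀ : Subgroup G}

theorem exists_mul (h : IsJRCentralizer u E E₀) {x : G} (hx : x * u = u * x) :
    ∃ i : ℤ, ∃ e ∈ E, x = u ^ i * e := by
  obtain ⟨-, -, hcomm, -, hsup⟩ := h.1
  have hxC : x ∈ zpowers u ⊔ E := by
    rw [hsup]
    exact mem_centralizer_singleton_iff.2 hx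
  rw [sup_eq_closure] at hxC
  induction hxC using closure_induction with
  | mem y hy =>
    rcases hy with hy | hy
    · obtain ⟨i, rfl⟩ := mem_zpowers_iff.1 hy
      exact ⟨i, 1, one_mem _, (mul_one _).symm⟩
    · exact ⟨0, y, hy, by rw [zpow_zero, one_mul]⟩
  | one => exact ⟨0, 1, one_mem _, by simp⟩
  | mul y z _ _ iy iz =>
    obtain ⟨i, e, he, rfl⟩ := iy (mem_centralizer_singleton_iff.1 (hsup ▸ by rwa [sup_eq_closure]))
    obtain ⟨j, f, hf, rfl⟩ := iz (mem_centralizer_singleton_iff.1 (hsup ▸ by rwa [sup_eq_closure]))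
    refine ⟨i + j, e * f, mul_mem he hf, ?_⟩
    rw [zpow_add, mul_assoc, ← mul_assoc e, ← hcomm _ (zpow_mem (mem_zpowers u) j) e he]
    group
  | inv y _ iy =>
    obtain ⟨i, e, he, rfl⟩ := iy (mem_centralizer_singleton_iff.1 (hsup ▸ by rwa [sup_eq_closure]))
    refine ⟨-i, e⁻¹, inv_mem he, ?_⟩
    rw [hcomm _ (zpow_mem (mem_zpowers u) i) e he, mul_inv_rev, zpow_neg]

theorem commute_left (h : IsJRCentralizer u E E₀) {e : G} (he : e ∈ E) : u * e = e * u :=
  h.1.2.2.1 u (mem_zpowers u) e he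

theorem conj_mem₀ (h : IsJRCentralizer u E E₀) {x y : G} (hx : x * u = u * x) (hy : y ∈ E₀) :
    x * y * x⁻¹ ∈ E₀ := by
  obtain ⟨i, e, he, rfl⟩ := exists_mul h hx
  have h1 : e * y * e⁻¹ ∈ E₀ :=
    h.2.2.1.conj_mem ⟨y, h.2.1 hy⟩ hy ⟨e, he⟩
  have h2 : u ^ i * (e * y * e⁻¹) = e * y * e⁻¹ * u ^ i :=
    h.1.2.2.1 _ (zpow_mem (mem_zpowers u) i) _ (h.2.1 h1)
  rw [show u ^ i * e * y * (u ^ i * e)⁻¹ = u ^ i * (e * y * e⁻¹) * (u ^ i)⁻¹ by group, h2,
    mul_inv_cancel_right]
  exact h1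

theorem simple₀ (h : IsJRCentralizer u E E₀) : IsSimpleGroup E₀ := by
  obtain ⟨F, hF, hF', -, h5, ⟨e⟩⟩ := h.2.2.2.2.1
  haveI : IsSimpleGroup (Matrix.ProjectiveSpecialLinearGroup (Fin 2) F) :=
    Linear.isSimpleGroup_PSL le_rfl fun _ => by rw [Nat.card_eq_fintype_card]; omega
  haveI : Nontrivial E₀ := e.toEquiv.nontrivial
  exact IsSimpleGroup.isSimpleGroup_of_surjective e.symm.toMonoidHom e.symm.surjective

theorem not_comm₀ (h : IsJRCentralizer u E E₀) : ¬ IsMulCommutative E₀ := by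
  intro hc
  haveI := simple₀ h
  have hle : E₀ ≤ E ⊓ centralizer (E₀ : Set G) := le_inf h.2.1 fun a ha =>
    mem_centralizer_iff.2 fun b hb => congrArg Subtype.val (hc.is_comm.comm ⟨b, hb⟩ ⟨a, ha⟩)
  rw [h.2.2.2.2.2, le_bot_iff] at hle
  exact (nontrivial_iff_ne_bot E₀).1 inferInstance hle

theorem eq_zpow_of_comm₀ (h : IsJRCentralizer u E E₀) {x : G} (hx : x * u = u * x)
    (hc : ∀ y ∈ E₀, x * y = y * x) : x ∈ zpowers u := by
  obtain ⟨i, e, he, rfl⟩ := exists_mul h hx
  have he1 : e ∈ E ⊓ centralizer (E₀ : Set G) := mem_inf.2 ⟨he, mem_centralizer_iff.2 fun y hy => by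
    have h1 : u ^ i * y = y * u ^ i := h.1.2.2.1 _ (zpow_mem (mem_zpowers u) i) y (h.2.1 hy)
    have h2 : u ^ i * e * y = y * (u ^ i * e) := hc y hy
    rw [← mul_assoc, ← h1, mul_assoc, mul_assoc] at h2
    exact (mul_left_cancel h2).symm⟩
  rw [h.2.2.2.2.2, mem_bot] at he1
  rw [he1, mul_one]
  exact zpow_mem (mem_zpowers u) i

theorem eq_one_of_odd {x : G} (hu : orderOf u = 2) (hx : x ∈ zpowers u) (hodd : Odd (orderOf x)) :
    x = 1 := by
  obtain ⟨i, rfl⟩ := mem_zpowers_iff.1 hx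
  refine orderOf_eq_one_iff.1 (Nat.eq_one_of_dvd_coprimes (Nat.coprime_two_right.2 hodd) dvd_rfl ?_)
  exact hu ▸ orderOf_dvd_of_mem_zpowers hx

theorem mem_E_of_odd (h : IsJRCentralizer u E E₀) (hu : orderOf u = 2) {x : G}
    (hx : x * u = u * x) (hodd : Odd (orderOf x)) : x ∈ E := by
  obtain ⟨i, e, he, rfl⟩ := exists_mul h hx
  have hc : Commute (u ^ i) e := h.1.2.2.1 _ (zpow_mem (mem_zpowers u) i) e he
  have h1 : (u ^ i) ^ orderOf (u ^ i * e) * e ^ orderOf (u ^ i * e) = 1 := by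
    rw [← hc.mul_pow, pow_orderOf_eq_one]
  have h2 : (u ^ i) ^ orderOf (u ^ i * e) ∈ zpowers u ⊓ E := mem_inf.2
    ⟨pow_mem (zpow_mem (mem_zpowers u) i) _, by
      rw [eq_inv_of_mul_eq_one_left h1]; exact inv_mem (pow_mem he _)⟩
  rw [h.1.2.2.2.1, mem_bot] at h2
  have h3 : u ^ i = 1 := by
    refine orderOf_eq_one_iff.1 (Nat.eq_one_of_dvd_coprimes (Nat.coprime_two_right.2 hodd)
      (orderOf_dvd_of_pow_eq_one h2) ?_)
    exact hu ▸ orderOf_dvd_of_mem_zpowers (zpow_mem (mem_zpowers u) i)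
  rw [h3, one_mul]
  exact he

theorem mem₀_of_sq (h : IsJRCentralizer u E E₀) [Finite G] {e : G} (he : e ∈ E)
    (h2 : e * e ∈ E₀) : e ∈ E₀ := by
  haveI := h.2.2.1
  have hm : (QuotientGroup.mk' (E₀.subgroupOf E) ⟨e, he⟩) ^ 2 = 1 := by
    rw [← map_pow, QuotientGroup.mk'_apply, QuotientGroup.eq_one_iff, mem_subgroupOf, pow_two]
    exact h2
  have hodd : Odd (Nat.card (E ⧸ E₀.subgroupOf E)) := by
    rw [← index_eq_card]
    exact h.2.2.2.1
  have h1 : QuotientGroup.mk' (E₀.subgroupOf E) ⟨e, he⟩ = 1 :=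
    orderOf_eq_one_iff.1 (Nat.eq_one_of_dvd_coprimes (Nat.coprime_two_left.2 hodd)
      (orderOf_dvd_of_pow_eq_one hm) (orderOf_dvd_natCard _))
  exact mem_subgroupOf.1 ((QuotientGroup.eq_one_iff _).1 h1)

variable [Finite G]

/-- `C(u)` has no non-trivial normal subgroup of odd order. -/
theorem eq_bot_of_normalized (h : IsJRCentralizer u E E₀) (hu : orderOf u = 2) {D : Subgroup G}
    (hD : D ≤ centralizer ({u} : Set G)) (hodd : Odd (Nat.card D))
    (hn : ∀ x : G, x * u = u * x → ∀ d ∈ D, x * d * x⁻¹ ∈ D) : D = ⊥ := by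
  haveI := simple₀ h
  have hyu : ∀ y ∈ E₀, y * u = u * y := fun y hy => (commute_left h (h.2.1 hy)).symm
  haveI : (D.subgroupOf E₀).Normal := ⟨fun d hd y => hn _ (hyu _ y.2) _ hd⟩
  have hint : D.subgroupOf E₀ = ⊥ := by
    refine (IsSimpleGroup.eq_bot_or_eq_top_of_normal _ inferInstance).resolve_right fun he => ?_
    have hle : E₀ ≤ D := subgroupOf_eq_top.1 he
    have hsol : Group.IsSolvable E₀ := OddOrder.FeitThompson.isSolvable_of_odd_card
      (hodd.of_dvd_nat (card_dvd_of_le hle))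
    exact not_comm₀ h ⟨⟨IsSimpleGroup.comm_iff_isSolvable.2 hsol⟩⟩
  refine eq_bot_iff.2 fun d hd => mem_bot.2 ?_
  refine eq_one_of_odd hu (eq_zpow_of_comm₀ h (mem_centralizer_singleton_iff.1 (hD hd)) fun y hy => ?_)
    (hodd.of_dvd_nat (D.orderOf_dvd_natCard hd))
  have h1 : d * y * d⁻¹ * y⁻¹ ∈ E₀ :=
    mul_mem (conj_mem₀ h (mem_centralizer_singleton_iff.1 (hD hd)) hy) (inv_mem hy)
  have h2 : d * y * d⁻¹ * y⁻¹ ∈ D := by
    rw [show d * y * d⁻¹ * y⁻¹ = d * (y * d⁻¹ * y⁻¹) by group]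
    exact mul_mem hd (hn y (hyu y hy) _ (inv_mem hd))
  have h3 : (⟨_, h1⟩ : E₀) ∈ D.subgroupOf E₀ := h2
  rw [hint, mem_bot] at h3
  exact mul_inv_eq_iff_eq_mul.1 (mul_inv_eq_one.1 (congrArg Subtype.val h3))

/-- A subgroup of odd order of `C(u)` inverted by another involution is trivial when it is
normalised by the centraliser of both. -/
theorem eq_bot_of_inverted (h : IsJRCentralizer u E E₀) (hu : orderOf u = 2)
    (hOdd : ∀ (L : Type u) [Group L] [Finite L], IsOddType L → OddFacts L)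
    {t : G} (ht : orderOf t = 2) (htu : t * u = u * t) (hne : t ≠ u) {D : Subgroup G}
    (hD : D ≤ centralizer ({u} : Set G)) (hodd : Odd (Nat.card D))
    (hinv : ∀ d ∈ D, t * d * t⁻¹ = d⁻¹)
    (hn : ∀ x : G, x * u = u * x → x * t = t * x → ∀ d ∈ D, x * d * x⁻¹ ∈ D) : D = ⊥ := by
  obtain ⟨i, e, he, hte⟩ := exists_mul h htu
  have hc : Commute (u ^ i) e := h.1.2.2.1 _ (zpow_mem (mem_zpowers u) i) e he
  have hu2 : u * u = 1 := by rw [← pow_two, ← hu, pow_orderOf_eq_one]
  have ht2 : t * t = 1 := by rw [← pow_two, ← ht, pow_orderOf_eq_one]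
  have hui : u ^ i = 1 ∨ u ^ i = u := by
    rcases Int.even_or_odd' i with ⟨j, rfl | rfl⟩
    · left; rw [zpow_mul, zpow_two, hu2, one_zpow]
    · right; rw [zpow_add, zpow_mul, zpow_two, hu2, one_zpow, one_mul, zpow_one]
  have hee : e * e = 1 := by
    have h1 : u ^ i * u ^ i * (e * e) = 1 := by
      calc u ^ i * u ^ i * (e * e) = u ^ i * (u ^ i * e) * e := by group
        _ = u ^ i * (e * u ^ i) * e := by rw [hc.eq]
        _ = u ^ i * e * (u ^ i * e) := by group
        _ = 1 := by rw [← hte, ht2]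
    rcases hui with e' | e' <;> rw [e'] at h1
    · simpa using h1
    · rwa [hu2, one_mul] at h1
  have he₀ : e ∈ E₀ := mem₀_of_sq h he (hee ▸ one_mem _)
  have he1 : e ≠ 1 := fun e1 => by
    rw [e1, mul_one] at hte
    rcases hui with e' | e'
    · rw [hte, e', orderOf_one] at ht
      omega
    · exact hne (hte.trans e')
  have hDE : ∀ d ∈ D, d ∈ E₀ ∧ e * d * e⁻¹ = d⁻¹ := by
    intro d hd
    have hdu := mem_centralizer_singleton_iff.1 (hD hd)
    have hdo : Odd (orderOf d) := hodd.of_dvd_nat (D.orderOf_dvd_natCard hd)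
    have hdE := mem_E_of_odd h hu hdu hdo
    have hed : e * d * e⁻¹ = d⁻¹ := by
      have h1 : u ^ i * (e * d * e⁻¹) = e * d * e⁻¹ * u ^ i :=
        h.1.2.2.1 _ (zpow_mem (mem_zpowers u) i) _ (mul_mem (mul_mem he hdE) (inv_mem he))
      rw [← hinv d hd, hte, show u ^ i * e * d * (u ^ i * e)⁻¹ = u ^ i * (e * d * e⁻¹) * (u ^ i)⁻¹ by
        group, h1, mul_inv_cancel_right]
    refine ⟨mem₀_of_sq h hdE ?_, hed⟩
    have h2 : d * e * d⁻¹ ∈ E₀ := conj_mem₀ h hdu he₀
    have h3 : d * e * d⁻¹ * e⁻¹ ∈ E₀ := mul_mem h2 (inv_mem he₀)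
    rwa [show d * e * d⁻¹ * e⁻¹ = d * (e * d⁻¹ * e⁻¹) by group,
      show e * d⁻¹ * e⁻¹ = (e * d * e⁻¹)⁻¹ by group, hed, inv_inv] at h3
  have hO := hOdd ↥E₀ h.2.2.2.2.1
  have heq : orderOf (⟨e, he₀⟩ : E₀) = 2 := orderOf_eq_prime
    (Subtype.ext (by rw [pow_two]; exact hee)) fun e' => he1 (congrArg Subtype.val e')
  have hcard : Nat.card (D.subgroupOf E₀) = Nat.card D :=
    Nat.card_congr (subgroupOfEquivOfLe fun d hd => (hDE d hd).1).toEquiv
  have := hO.inverted ⟨e, he₀⟩ heq (D.subgroupOf E₀) (hcard ▸ hodd)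
    (fun d hd => Subtype.ext (hDE _ hd).2) fun x hx d hd => by
      have hxu : (x : G) * u = u * x := (commute_left h (h.2.1 x.2)).symm
      refine hn x hxu ?_ d hd
      have h1 : u ^ i * (x : G) = x * u ^ i := h.1.2.2.1 _ (zpow_mem (mem_zpowers u) i) _ (h.2.1 x.2)
      have h2 : (x : G) * e = e * x := congrArg Subtype.val hx
      rw [hte, ← mul_assoc, ← h1, mul_assoc, h2, mul_assoc]
  refine eq_bot_iff.2 fun d hd => mem_bot.2 ?_
  have h1 : (⟨d, (hDE d hd).1⟩ : E₀) ∈ D.subgroupOf E₀ := hd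
  rw [this, mem_bot] at h1
  exact congrArg Subtype.val h1

/-- The orbit of an element of a Sylow 2-subgroup under a subgroup of its normaliser is odd. -/
theorem odd_orbit (S : Sylow 2 G) (hS : IsMulCommutative (S : Subgroup G)) (K : Subgroup G)
    (hSK : (S : Subgroup G) ≤ K) {x : G} (hx : x ∈ (S : Subgroup G)) :
    Odd (Nat.card {y : G // ∃ k ∈ K, k * x * k⁻¹ = y}) := by
  letI : MulAction K G := MulAction.compHom G ((MulAut.conj (G := G)).comp K.subtype)
  have he : {y : G | ∃ k ∈ K, k * x * k⁻¹ = y} = MulAction.orbit K x := by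
    ext y
    exact ⟨fun ⟨k, hk, e⟩ => ⟨⟨k, hk⟩, e⟩, fun ⟨k, e⟩ => ⟨k, k.2, e⟩⟩
  have hle : (S : Subgroup G).subgroupOf K ≤ MulAction.stabilizer K x := fun k hk => by
    show (k : G) * x * (k : G)⁻¹ = x
    haveI := hS
    rw [setLike_mul_comm (s := (S : Subgroup G)) (mem_subgroupOf.1 hk) hx, mul_inv_cancel_right]
  have h1 : Nat.card {y : G // ∃ k ∈ K, k * x * k⁻¹ = y} = (MulAction.stabilizer K x).index := by
    rw [MulAction.index_stabilizer, ← he, ← Nat.card_coe_set_eq]
    rfl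
  rw [h1]
  have hS' : Odd (S : Subgroup G).index := Nat.not_even_iff_odd.1 fun h =>
    S.not_dvd_index (even_iff_two_dvd.1 h)
  refine Odd.of_dvd_nat (hS'.of_dvd_nat ⟨K.index, ?_⟩) (index_dvd_of_le hle)
  exact (relIndex_mul_index hSK).symm

theorem two_le_orbit {K : Subgroup G} {x y : G} (hy : y ≠ x) (hk : ∃ k ∈ K, k * x * k⁻¹ = y) :
    2 ≤ Nat.card {z : G // ∃ k ∈ K, k * x * k⁻¹ = z} := by
  haveI : Nontrivial {z : G // ∃ k ∈ K, k * x * k⁻¹ = z} :=
    ⟨⟨⟨x, 1, one_mem _, by group⟩, ⟨y, hk⟩, fun e => hy (congrArg Subtype.val e).symm⟩⟩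
  exact Finite.one_lt_card

/-- The centraliser of an involution of a group of Janko–Ree type is a maximal subgroup. -/
theorem isCoatom_centralizer (hSplit : BenderOne.PropSplit.{u})
    (hOdd : ∀ (L : Type u) [Group L] [Finite L], IsOddType L → OddFacts L)
    (hJ : IsJR G) (hna : ¬ IsMulCommutative G) {t : G} (ht : orderOf t = 2) :
    IsCoatom (centralizer ({t} : Set G)) := by
  classical
  haveI : Fact (Nat.Prime 2) := ⟨Nat.prime_two⟩
  haveI := hJ.simple
  obtain ⟨E, E₀, hE⟩ := hJ.centralizer t ht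
  refine ⟨fun htop => ?_, fun H hlt => ?_⟩
  · have htc : t ∈ center G := mem_center_iff.2 fun g =>
      mem_centralizer_singleton_iff.1 (htop.symm ▸ mem_top g)
    rcases IsSimpleGroup.eq_bot_or_eq_top_of_normal (center G) inferInstance with hb | hb
    · rw [hb, mem_bot] at htc
      rw [htc, orderOf_one] at ht
      omega
    · exact hna ⟨⟨fun a b => mem_center_iff.1 (hb.symm ▸ mem_top b) a⟩⟩
  by_contra hH
  have hCH : centralizer ({t} : Set G) ≤ H := hlt.le
  obtain ⟨S, hSt⟩ := IsPGroup.exists_le_sylow (p := 2) (P := zpowers t)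
    (IsPGroup.of_card (n := 1) (by rw [Nat.card_zpowers, ht, pow_one]))
  have htS : t ∈ (S : Subgroup G) := hSt (mem_zpowers t)
  have hab : IsMulCommutative (S : Subgroup G) := (hJ.elementary S).1
  have hsq : ∀ s ∈ (S : Subgroup G), s ^ 2 = 1 := fun s hs => (hJ.elementary S).2 s hs
  have hord : ∀ s ∈ (S : Subgroup G), s ≠ 1 → orderOf s = 2 := fun s hs h1 =>
    orderOf_eq_prime (hsq s hs) h1
  have hcomm : ∀ a ∈ (S : Subgroup G), ∀ b ∈ (S : Subgroup G), a * b = b * a := fun a ha b hb => by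
    haveI := hab
    exact setLike_mul_comm ha hb
  set C := centralizer ({t} : Set G) with hC
  have hSC : (S : Subgroup G) ≤ C := fun s hs => mem_centralizer_singleton_iff.2 (hcomm s hs t htS)
  have hSH : (S : Subgroup G) ≤ H := hSC.trans hCH
  -- fusion in a subgroup containing `S`
  have burnside : ∀ K : Subgroup G, (S : Subgroup G) ≤ K → ∀ x ∈ (S : Subgroup G), ∀ g ∈ K,
      g * x * g⁻¹ ∈ (S : Subgroup G) → ∃ n ∈ K ⊓ normalizer ((S : Subgroup G) : Set G),
        n * x * n⁻¹ = g * x * g⁻¹ := by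
    intro K hSK x hx g hg hgx
    obtain ⟨n, hn, hne⟩ := Walter.exists_normalizer_conj (S := S.subtype hSK)
      (x := ⟨x, hSK hx⟩) (g := ⟨g, hg⟩)
      ⟨⟨fun a b => Subtype.ext (Subtype.ext (hcomm _ a.2 _ b.2))⟩⟩ hx hgx
    exact ⟨n, ⟨n.2, (CentralInt88.mem_normalizer_subtype hSK n).1 hn⟩, congrArg Subtype.val hne⟩
  -- every other involution of `S` is moved by `N_C(S)`
  set K₀ := C ⊓ normalizer ((S : Subgroup G) : Set G) with hK₀
  have hmove : ∀ s ∈ (S : Subgroup G), s ≠ 1 → s ≠ t → ∃ k ∈ K₀, k * s * k⁻¹ ≠ s := by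
    intro s hs hs1 hst
    by_contra hcon
    push Not at hcon
    have hiso : ZStar.Elements.IsolatedIn (S.subtype hSC) (⟨s, hSC hs⟩ : C) := by
      refine ⟨hs, fun g hg => Subtype.ext ?_⟩
      obtain ⟨n, hn, hne⟩ := burnside C hSC s hs g g.2 hg
      exact hne.symm.trans (hcon n hn)
    have hcore : (Cfsg.oddCore C).map C.subtype = ⊥ := by
      refine eq_bot_of_normalized hE ht (map_subtype_le _) ?_ fun x hx d hd => ?_
      · rw [card_subtype]
        exact ZStar.Elements.oddCore_odd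
      · obtain ⟨d, hd, rfl⟩ := hd
        haveI : (Cfsg.oddCore C).Normal := by unfold Cfsg.oddCore; infer_instance
        exact ⟨⟨x, mem_centralizer_singleton_iff.2 hx⟩ * d *
          (⟨x, mem_centralizer_singleton_iff.2 hx⟩ : C)⁻¹,
          Normal.conj_mem inferInstance d hd _, rfl⟩
    have hz : s ∈ zpowers t := by
      refine eq_zpow_of_comm₀ hE (hcomm s hs t htS) fun y hy => ?_
      have hyC : y ∈ C := mem_centralizer_singleton_iff.2 (commute_left hE (hE.2.1 hy)).symm
      have h1 := mem_map_of_mem C.subtype (ZStar.Elements.commutator_mem_oddCore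
        ZStar.StronglyClosed.involutionThm _ C (S.subtype hSC) ⟨s, hSC hs⟩ rfl hiso ⟨y, hyC⟩)
      rw [hcore, mem_bot] at h1
      exact mul_inv_eq_iff_eq_mul.1 (mul_inv_eq_one.1 h1)
    obtain ⟨i, hi⟩ := mem_zpowers_iff.1 hz
    rcases Int.even_or_odd' i with ⟨j, rfl | rfl⟩
    · exact hs1 (by rw [← hi, zpow_mul, zpow_two, ← pow_two, hsq t htS, one_zpow])
    · exact hst (by rw [← hi, zpow_add, zpow_mul, zpow_two, ← pow_two, hsq t htS, one_zpow, one_mul,
        zpow_one])
  by_cases hfus : ∀ g ∈ H, g * t * g⁻¹ ∈ (S : Subgroup G) → g * t * g⁻¹ = t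
  · -- `t` isolated: the odd core of `H` is trivial, so `H = C(t)`
    set O := (Cfsg.oddCore H).map H.subtype with hO
    have hOodd : Odd (Nat.card O) := by rw [card_subtype]; exact ZStar.Elements.oddCore_odd
    have hOn : ∀ x ∈ H, ∀ d ∈ O, x * d * x⁻¹ ∈ O := by
      rintro x hx _ ⟨d, hd, rfl⟩
      haveI : (Cfsg.oddCore H).Normal := by unfold Cfsg.oddCore; infer_instance
      exact ⟨⟨x, hx⟩ * d * (⟨x, hx⟩ : H)⁻¹, Normal.conj_mem inferInstance d hd _, rfl⟩
    have hiso : ZStar.Elements.IsolatedIn (S.subtype hSH) (⟨t, hSH htS⟩ : H) :=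
      ⟨htS, fun g hg => Subtype.ext (hfus g g.2 hg)⟩
    have hkey : ∀ g ∈ H, t * g * t⁻¹ * g⁻¹ ∈ O := fun g hg =>
      mem_map_of_mem H.subtype (ZStar.Elements.commutator_mem_oddCore
        ZStar.StronglyClosed.involutionThm _ H (S.subtype hSH) ⟨t, hSH htS⟩ rfl hiso ⟨g, hg⟩)
    have hfix : O ⊓ C = ⊥ := eq_bot_of_normalized hE ht inf_le_right
      (hOodd.of_dvd_nat (card_dvd_of_le inf_le_left)) fun x hx d hd =>
        mem_inf.2 ⟨hOn x (hCH (mem_centralizer_singleton_iff.2 hx)) d hd.1,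
          mul_mem (mul_mem (mem_centralizer_singleton_iff.2 hx) hd.2)
            (inv_mem (mem_centralizer_singleton_iff.2 hx))⟩
    have htt : t * t = 1 := by rw [← pow_two]; exact hsq t htS
    have hti : t⁻¹ = t := inv_eq_of_mul_eq_one_left htt
    -- `t` inverts `O`
    have hinv : ∀ d ∈ O, t * d * t⁻¹ = d⁻¹ := by
      haveI : Finite O := inferInstance
      let σ : O →* O :=
        { toFun := fun d => ⟨t * d * t⁻¹, hOn t (hSH htS) d d.2⟩
          map_one' := Subtype.ext (by simp)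
          map_mul' := fun a b => Subtype.ext (by simp [mul_assoc]) }
      have hinvol : Function.Involutive σ := fun d => Subtype.ext (by
        show t * (t * d * t⁻¹) * t⁻¹ = d
        rw [hti, show t * (t * (d : G) * t) * t = t * t * d * (t * t) by group, htt, one_mul, mul_one])
      have hfree : MonoidHom.FixedPointFree σ := by
        intro d hd
        have h1 : (d : G) ∈ O ⊓ C := ⟨d.2, mem_centralizer_singleton_iff.2
          (mul_inv_eq_iff_eq_mul.1 (congrArg Subtype.val hd)).symm⟩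
        rw [hfix, mem_bot] at h1
        exact Subtype.ext h1
      intro d hd
      exact congrArg Subtype.val (congrFun (hfree.coe_eq_inv_of_involutive hinvol) ⟨d, hd⟩)
    have hOcomm : ∀ a ∈ O, ∀ b ∈ O, a * b = b * a := fun a ha b hb => by
      have h1 := hinv _ (mul_mem ha hb)
      rw [show t * (a * b) * t⁻¹ = t * a * t⁻¹ * (t * b * t⁻¹) by group, hinv a ha, hinv b hb,
        mul_inv_rev] at h1
      have h2 : b * a = a * b := by simpa using congrArg (·⁻¹) h1
      exact h2.symm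
    -- `C_O(v) = 1` for the other involutions of `S`
    have hCO : ∀ v ∈ (S : Subgroup G), v ≠ 1 → v ≠ t → ∀ d ∈ O, v * d = d * v → d = 1 := by
      intro v hv hv1 hvt d hd hvd
      obtain ⟨E', E₀', hE'⟩ := hJ.centralizer v (hord v hv hv1)
      have := eq_bot_of_inverted hE' (hord v hv hv1) hOdd ht (hcomm t htS v hv) (Ne.symm hvt)
        (D := O ⊓ centralizer ({v} : Set G)) inf_le_right
        (hOodd.of_dvd_nat (card_dvd_of_le inf_le_left)) (fun d hd => hinv d hd.1)
        fun x hxv hxt d hd => mem_inf.2 ⟨hOn x (hCH (mem_centralizer_singleton_iff.2 hxt)) d hd.1,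
          mul_mem (mul_mem (mem_centralizer_singleton_iff.2 hxv) hd.2)
            (inv_mem (mem_centralizer_singleton_iff.2 hxv))⟩
      exact mem_bot.1 (this ▸ ⟨hd, mem_centralizer_singleton_iff.2 hvd.symm⟩)
    have hOb : O = ⊥ := by
      obtain ⟨v, hv, hvt⟩ : ∃ v ∈ (S : Subgroup G), v ∉ zpowers t := by
        by_contra hcon
        push Not at hcon
        have := card_le_of_le (H := (S : Subgroup G)) (K := zpowers t) hcon
        rw [hJ.card_sylow S, Nat.card_zpowers, ht] at this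
        omega
      have hv1 : v ≠ 1 := fun e => hvt (e ▸ one_mem _)
      have hvne : v ≠ t := fun e => hvt (e ▸ mem_zpowers t)
      have hw : t * v ∈ (S : Subgroup G) := mul_mem htS hv
      have hw1 : t * v ≠ 1 := fun e => hvne (by rw [← one_mul v, ← htt, mul_assoc, e, mul_one])
      have hwne : t * v ≠ t := fun e => hv1 (mul_eq_left.1 e)
      refine eq_bot_iff.2 fun d hd => mem_bot.2 ?_
      have hd' : v * d * v⁻¹ ∈ O := hOn v (hSH hv) d hd
      have hx : d * (v * d * v⁻¹) = 1 := by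
        refine hCO v hv hv1 hvne _ (mul_mem hd hd') ?_
        have hvv : v * v = 1 := by rw [← pow_two]; exact hsq v hv
        have hvi : v⁻¹ = v := inv_eq_of_mul_eq_one_left hvv
        have hc := hOcomm d hd _ hd'
        rw [hvi] at hc ⊢
        calc v * (d * (v * d * v)) = v * d * v * d * v := by group
          _ = d * (v * d * v) * v := by rw [← hc]
      refine hCO _ hw hw1 hwne d hd (mul_inv_eq_iff_eq_mul.1 ?_)
      rw [show t * v * d * (t * v)⁻¹ = t * (v * d * v⁻¹) * t⁻¹ by group, hinv _ hd',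
        eq_inv_of_mul_eq_one_right hx, inv_inv]
    refine hlt.not_ge fun g hg => mem_centralizer_singleton_iff.2 ?_
    have h1 := hkey g hg
    rw [hOb, mem_bot, mul_inv_eq_one, mul_inv_eq_iff_eq_mul] at h1
    exact h1.symm
  · -- `H` fuses all involutions of `S`, so it is strongly embedded
    push Not at hfus
    obtain ⟨g, hg, hgS, hgt⟩ := hfus
    obtain ⟨n, hn, hne⟩ := burnside H hSH t htS g hg hgS
    set K := H ⊓ normalizer ((S : Subgroup G) : Set G) with hK
    have hSK : (S : Subgroup G) ≤ K := le_inf hSH le_normalizer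
    have hSK₀ : (S : Subgroup G) ≤ K₀ := le_inf hSC le_normalizer
    set T := {y : G // ∃ k ∈ K, k * t * k⁻¹ = y} with hT
    have hall : ∀ s ∈ (S : Subgroup G), s ≠ 1 → ∃ k ∈ K, k * t * k⁻¹ = s := by
      intro s hs hs1
      by_contra hsT
      have hst : s ≠ t := fun e => hsT ⟨1, one_mem _, by rw [e]; group⟩
      obtain ⟨k₁, hk₁, hk₁s⟩ := hmove s hs hs1 hst
      have h3 : ∀ x ∈ (S : Subgroup G), (∃ k ∈ K₀, k * x * k⁻¹ ≠ x) →
          3 ≤ Nat.card {z : G // ∃ k ∈ K₀, k * x * k⁻¹ = z} := by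
        intro x hx ⟨k, hk, hkx⟩
        have h2 := two_le_orbit hkx ⟨k, hk, rfl⟩
        obtain ⟨j, hj⟩ := odd_orbit S hab K₀ hSK₀ hx
        omega
      have hA := h3 s hs ⟨k₁, hk₁, hk₁s⟩
      have hKK : K₀ ≤ K := inf_le_inf_right _ hCH
      have hnt : n * t * n⁻¹ ≠ t := hne ▸ hgt
      have hn1 : n * t * n⁻¹ ≠ 1 := fun e => by
        rw [conj_eq_one_iff] at e
        rw [e, orderOf_one] at ht
        omega
      have hnS : n * t * n⁻¹ ∈ (S : Subgroup G) := hne ▸ hgS
      obtain ⟨k₂, hk₂, hk₂s⟩ := hmove _ hnS hn1 hnt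
      have hB := h3 _ hnS ⟨k₂, hk₂, hk₂s⟩
      -- `T` is odd, at least four, and misses an orbit of size three
      have hTodd : Odd (Nat.card T) := odd_orbit S hab K hSK htS
      let f : Option {z : G // ∃ k ∈ K₀, k * (n * t * n⁻¹) * k⁻¹ = z} → T := fun o =>
        o.elim ⟨t, 1, one_mem _, by group⟩
          fun z => ⟨z.1, by
            obtain ⟨k, hk, e⟩ := z.2
            exact ⟨k * n, mul_mem (hKK hk) hn, by rw [← e]; group⟩⟩
      have hnot : ∀ k ∈ K₀, k * (n * t * n⁻¹) * k⁻¹ ≠ t := fun k hk e => hnt <| by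
        have hkt : k * t = t * k := mem_centralizer_singleton_iff.1 hk.1
        calc n * t * n⁻¹ = k⁻¹ * (k * (n * t * n⁻¹) * k⁻¹) * k := by group
          _ = k⁻¹ * (t * k) := by rw [e]; group
          _ = t := by rw [← hkt, inv_mul_cancel_left]
      have hfinj : Function.Injective f := by
        rintro (_ | a) (_ | b) hab'
        · rfl
        · obtain ⟨k, hk, e⟩ := b.2
          exact absurd (e.trans (congrArg (fun v : T => (v : G)) hab' :).symm) (hnot k hk)
        · obtain ⟨k, hk, e⟩ := a.2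
          exact absurd (e.trans (congrArg (fun v : T => (v : G)) hab' :)) (hnot k hk)
        · exact congrArg some (Subtype.ext (congrArg (fun v : T => (v : G)) hab' :))
      have hT4 := Nat.card_le_card_of_injective f hfinj
      rw [Finite.card_option] at hT4
      have hKS : ∀ k ∈ K, ∀ x ∈ (S : Subgroup G), k * x * k⁻¹ ∈ (S : Subgroup G) := fun k hk x hx =>
        (mem_normalizer_iff.1 hk.2 x).1 hx
      -- the three pieces `1`, `T`, orbit of `s` lie disjointly in `S`
      let φ : Option (T ⊕ {z : G // ∃ k ∈ K₀, k * s * k⁻¹ = z}) → ↥(S : Subgroup G) := fun o =>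
        o.elim 1 (Sum.elim (fun y => ⟨y.1, by
            obtain ⟨k, hk, e⟩ := y.2
            exact e ▸ hKS k hk t htS⟩)
          fun z => ⟨z.1, by
            obtain ⟨k, hk, e⟩ := z.2
            exact e ▸ hKS k (hKK hk) s hs⟩)
      have hφ : Function.Injective φ := by
        have hT1 : ∀ y : T, (y : G) ≠ 1 := fun y e => by
          obtain ⟨k, -, e'⟩ := y.2
          rw [e, conj_eq_one_iff] at e'
          rw [e', orderOf_one] at ht
          omega
        have hZ1 : ∀ z : {z : G // ∃ k ∈ K₀, k * s * k⁻¹ = z}, (z : G) ≠ 1 := fun z e => by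
          obtain ⟨k, -, e'⟩ := z.2
          rw [e, conj_eq_one_iff] at e'
          exact hs1 e'
        have hdis : ∀ (y : T) (z : {z : G // ∃ k ∈ K₀, k * s * k⁻¹ = z}), (y : G) ≠ z := fun y z e => by
          obtain ⟨k, hk, e'⟩ := z.2
          obtain ⟨m, hm, e''⟩ := y.2
          exact hsT ⟨k⁻¹ * m, mul_mem (inv_mem (hKK hk)) hm, by
            rw [show k⁻¹ * m * t * (k⁻¹ * m)⁻¹ = k⁻¹ * (m * t * m⁻¹) * k by group, e'', e, ← e']
            group⟩
        rintro (_ | y | z) (_ | y' | z') he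
        all_goals have he' := congrArg (fun v : ↥(S : Subgroup G) => (v : G)) he
        all_goals simp only [φ, Option.elim, Sum.elim_inl, Sum.elim_inr, OneMemClass.coe_one] at he'
        · rfl
        · exact absurd he'.symm (hT1 y')
        · exact absurd he'.symm (hZ1 z')
        · exact absurd he' (hT1 y)
        · exact congrArg (some ∘ Sum.inl) (Subtype.ext he')
        · exact absurd he' (hdis y z')
        · exact absurd he' (hZ1 z)
        · exact absurd he'.symm (hdis y' z)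
        · exact congrArg (some ∘ Sum.inr) (Subtype.ext he')
      have h8 := Nat.card_le_card_of_injective φ hφ
      rw [Finite.card_option, Nat.card_sum, hJ.card_sylow S] at h8
      obtain ⟨j, hj⟩ := hTodd
      omega
    have hOm : Om S = (S : Subgroup G) :=
      le_antisymm (Om_le S) fun x hx => (mem_Om hab).2 ⟨hx, hsq x hx⟩
    have hcen : ∀ s ∈ Om S, s ≠ 1 → centralizer ({s} : Set G) ≤ H := by
      intro s hs hs1 c hc
      obtain ⟨k, hk, e⟩ := hall s (Om_le S hs) hs1
      have : k⁻¹ * c * k ∈ C := mem_centralizer_singleton_iff.2 <| by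
        have hc' : c * s = s * c := mem_centralizer_singleton_iff.1 hc
        rw [← e] at hc'
        calc k⁻¹ * c * k * t = k⁻¹ * (c * (k * t * k⁻¹)) * k := by group
          _ = k⁻¹ * (k * t * k⁻¹ * c) * k := by rw [hc']
          _ = t * (k⁻¹ * c * k) := by group
      rw [show c = k * (k⁻¹ * c * k) * k⁻¹ by group]
      exact mul_mem (mul_mem hk.1 (hCH this)) (inv_mem hk.1)
    have hN : normalizer ((S : Subgroup G) : Set G) ≤ H := by
      intro m hm
      have h1 : m * t * m⁻¹ ≠ 1 := fun e => by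
        rw [conj_eq_one_iff] at e
        rw [e, orderOf_one] at ht
        omega
      obtain ⟨k, hk, e⟩ := hall _ ((mem_normalizer_iff.1 hm t).1 htS) h1
      have : k⁻¹ * m ∈ C := mem_centralizer_singleton_iff.2 <| by
        calc k⁻¹ * m * t = k⁻¹ * (m * t * m⁻¹) * m := by group
          _ = t * (k⁻¹ * m) := by rw [← e]; group
      rw [show m = k * (k⁻¹ * m) by group]
      exact mul_mem hk.1 (hCH this)
    have hsol : Group.IsSolvable H := Walter.solvable_of_centralizers_le hSplit hab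
      (by rw [hOm, hJ.card_sylow S]; norm_num) hH hN hcen
    haveI := simple₀ hE
    have hle : E₀ ≤ H := fun y hy =>
      hCH (mem_centralizer_singleton_iff.2 (commute_left hE (hE.2.1 hy)).symm)
    have : Group.IsSolvable E₀ :=
      Group.isSolvable_of_isSolvable_injective (inclusion_injective hle)
    exact not_comm₀ hE ⟨⟨IsSimpleGroup.comm_iff_isSolvable.2 this⟩⟩

end Cfsg.Agent.Lib.CentralIntSimple11
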